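import Cfsg.Agent.Lib.PLocal.ZJ
import Mathlib.GroupTheory.NoncommCoprod

/-!
Abelian subgroups of largest order against a normal `p`-subgroup: replacement by commutator
subgroups, and the dichotomy for a member chosen with largest intersection with `O_p`.
-/

set_option autoImplicit false
set_option linter.style.haveILetI false
set_option linter.unusedSectionVars false

namespace Cfsg.Agent.JKiller

open Cfsg
open Cfsg.Agent.ZJ (IsMaxIn)
open scoped commutatorElement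

universe u

variable {G : Type u} [Group G]

/-! ### commutator identities -/

theorem comm_left_mul (a b x : G) : ⁅a * b, x⁆ = a * ⁅b, x⁆ * a⁻¹ * ⁅a, x⁆ := by
  simp only [commutatorElement_def]; group

theorem comm_right_mul (a x y : G) : ⁅a, x * y⁆ = ⁅a, x⁆ * (x * ⁅a, y⁆ * x⁻¹) := by
  simp only [commutatorElement_def]; group

theorem comm_mul_of_commute {a x y : G} (h : Commute x ⁅a, y⁆) : ⁅a, x * y⁆ = ⁅a, x⁆ * ⁅a, y⁆ := by
  rw [comm_right_mul, h.eq, mul_inv_cancel_right]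

theorem comm_eq_one {a x : G} (h : Commute a x) : ⁅a, x⁆ = 1 :=
  commutatorElement_eq_one_iff_commute.2 h

theorem comm_comm {a b x : G} (hab : Commute a b) (h : Commute ⁅a, x⁆ ⁅b, x⁆) :
    ⁅a, ⁅b, x⁆⁆ = ⁅b, ⁅a, x⁆⁆ := by
  have e : ⁅a, ⁅b, x⁆⁆ * ⁅b, x⁆ * ⁅a, x⁆ = ⁅b, ⁅a, x⁆⁆ * ⁅a, x⁆ * ⁅b, x⁆ := by
    calc ⁅a, ⁅b, x⁆⁆ * ⁅b, x⁆ * ⁅a, x⁆ = a * b * x * (b⁻¹ * a⁻¹) * x⁻¹ := by
          simp only [commutatorElement_def]; group
      _ = b * a * x * (a⁻¹ * b⁻¹) * x⁻¹ := by rw [hab.eq, (hab.inv_inv).eq]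
      _ = _ := by simp only [commutatorElement_def]; group
  rw [mul_assoc, mul_assoc, h.eq] at e
  exact mul_right_cancel e

/-! ### the commutator subgroup of one element -/

/-- The subgroup generated by the `⁅a, x⁆`, `a ∈ A`. -/
def cm (A : Subgroup G) (x : G) : Subgroup G :=
  Subgroup.closure {y | ∃ a ∈ A, ⁅a, x⁆ = y}

theorem mem_cm {A : Subgroup G} {x a : G} (ha : a ∈ A) : ⁅a, x⁆ ∈ cm A x :=
  Subgroup.subset_closure ⟨a, ha, rfl⟩

theorem cm_le {A : Subgroup G} {x : G} {K : Subgroup G} (h : ∀ a ∈ A, ⁅a, x⁆ ∈ K) : cm A x ≤ K :=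
  (Subgroup.closure_le _).2 (by rintro _ ⟨a, ha, rfl⟩; exact h a ha)

theorem comm_of_le {A K : Subgroup G} (hK : ∀ x ∈ K, ∀ y ∈ K, x * y = y * x) (h : A ≤ K) :
    ∀ x ∈ A, ∀ y ∈ A, x * y = y * x := fun x hx y hy => hK x (h hx) y (h hy)

theorem comm_sup {H K : Subgroup G} (hH : ∀ x ∈ H, ∀ y ∈ H, x * y = y * x)
    (hK : ∀ x ∈ K, ∀ y ∈ K, x * y = y * x) (hHK : K ≤ Subgroup.centralizer (H : Set G)) :
    ∀ x ∈ H ⊔ K, ∀ y ∈ H ⊔ K, x * y = y * x := by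
  have hle : H ⊔ K ≤ Subgroup.centralizer ((H ⊔ K : Subgroup G) : Set G) :=
    sup_le (Subgroup.le_centralizer_iff.1 (sup_le (fun x hx => Subgroup.mem_centralizer_iff.2
        fun y hy => hH y hy x hx) hHK))
      (Subgroup.le_centralizer_iff.1 (sup_le (Subgroup.le_centralizer_iff.1 hHK)
        fun x hx => Subgroup.mem_centralizer_iff.2 fun y hy => hK y hy x hx))
  exact fun x hx y hy => (Subgroup.mem_centralizer_iff.1 (hle hy) x hx)

theorem card_sup_mul_inf [Finite G] {H K : Subgroup G} (hHK : K ≤ Subgroup.centralizer (H : Set G)) :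
    Nat.card ↥(H ⊔ K) * Nat.card ↥(H ⊓ K) = Nat.card ↥H * Nat.card ↥K := by
  have hc : ∀ (x : H) (y : K), Commute (H.subtype x) (K.subtype y) := fun x y =>
    Subgroup.mem_centralizer_iff.1 (hHK y.2) x x.2
  set f := MonoidHom.noncommCoprod H.subtype K.subtype hc with hf
  have hrange : f.range = H ⊔ K := by
    rw [hf, MonoidHom.noncommCoprod_range, Subgroup.range_subtype, Subgroup.range_subtype]
  have hker : Nat.card f.ker = Nat.card ↥(H ⊓ K) := by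
    refine Nat.card_congr
      { toFun := fun q => ⟨(q.1.1 : G), q.1.1.2, ?_⟩
        invFun := fun z => ⟨(⟨z, z.2.1⟩, ⟨(z : G)⁻¹, K.inv_mem z.2.2⟩), mul_inv_cancel (z : G)⟩
        left_inv := fun q => ?_
        right_inv := fun z => rfl }
    · have h : (q.1.1 : G) * (q.1.2 : G) = 1 := q.2
      rw [eq_inv_of_mul_eq_one_left h]
      exact K.inv_mem q.1.2.2
    · have h : (q.1.1 : G) * (q.1.2 : G) = 1 := q.2
      exact Subtype.ext (Prod.ext (Subtype.ext rfl) (Subtype.ext (inv_eq_of_mul_eq_one_right h)))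
  have h := f.ker.card_mul_index
  rw [Subgroup.index_ker, hker, hrange, Nat.card_prod, mul_comm] at h
  exact h

/-! ### the configuration -/

/-- `A` is abelian of largest order in `S`, outside the normal subgroup `T`, with largest meet with
`T` and then with `V`; `T` acts trivially on `C / V` and `V` is central in `C`. -/
structure Cfg (p : ℕ) (S T C V A : Subgroup G) : Prop where
  hTn : T.Normal
  hCn : C.Normal
  hVn : V.Normal
  hTS : T ≤ S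
  hCT : C ≤ T
  hVC : V ≤ C
  hTC : ∀ t ∈ T, ∀ c ∈ C, ⁅t, c⁆ ∈ V
  hcen : ∀ v ∈ V, ∀ c ∈ C, v * c = c * v
  hA : IsMaxIn p False S A
  hAT : ¬ A ≤ T
  hmaxT : ∀ B, IsMaxIn p False S B → ¬ B ≤ T → Nat.card ↥(B ⊓ T) ≤ Nat.card ↥(A ⊓ T)
  hmaxV : ∀ B, IsMaxIn p False S B → ¬ B ≤ T → Nat.card ↥(A ⊓ T) ≤ Nat.card ↥(B ⊓ T) →
    Nat.card ↥(B ⊓ V) ≤ Nat.card ↥(A ⊓ V)

variable {p : ℕ} {S T C V A : Subgroup G}

/-- `M` is as large as it can be against its centralizer in `A`. -/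
def Best (V A M : Subgroup G) : Prop :=
  A ⊓ V ≤ M ∧ M ≤ V ∧
    Nat.card ↥A * Nat.card ↥(A ⊓ V) ≤
      Nat.card ↥M * Nat.card ↥(A ⊓ Subgroup.centralizer (M : Set G))

namespace Cfg

variable [Finite G] (h : Cfg p S T C V A)
include h

theorem acomm {x y : G} (hx : x ∈ A) (hy : y ∈ A) : Commute x y := h.hA.2.1.comm hx hy

theorem vcomm : ∀ x ∈ V, ∀ y ∈ V, x * y = y * x := fun x hx y hy => h.hcen x hx y (h.hVC hy)

theorem comm_mem_V {a v : G} (hv : v ∈ V) : ⁅a, v⁆ ∈ V := by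
  rw [commutatorElement_def]
  exact mul_mem (h.hVn.conj_mem v hv a) (inv_mem hv)

theorem comm_mem_C {a c : G} (hc : c ∈ C) : ⁅a, c⁆ ∈ C := by
  rw [commutatorElement_def]
  exact mul_mem (h.hCn.conj_mem c hc a) (inv_mem hc)

/-- Commutators by elements of `A` commute on `V`. -/
theorem swap_V {a b v : G} (ha : a ∈ A) (hb : b ∈ A) (hv : v ∈ V) : ⁅a, ⁅b, v⁆⁆ = ⁅b, ⁅a, v⁆⁆ :=
  comm_comm (h.acomm ha hb) (h.vcomm _ (h.comm_mem_V hv) _ (h.comm_mem_V hv))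

/-- Commutators by elements of `A` and of `A ∩ T` commute on `C`. -/
theorem swap_C {a e c : G} (ha : a ∈ A) (he : e ∈ A) (heT : e ∈ T) (hc : c ∈ C) :
    ⁅e, ⁅a, c⁆⁆ = ⁅a, ⁅e, c⁆⁆ :=
  comm_comm (h.acomm he ha) (h.hcen _ (h.hTC e heT c hc) _ (h.comm_mem_C hc))

theorem mem_A_of_centralizes {x : G} (hx : x ∈ S) (hc : ∀ a ∈ A, ⁅a, x⁆ = 1) : x ∈ A :=
  ZJ.mem_of_centralizes h.hA hx (fun a ha => commutatorElement_eq_one_iff_mul_comm.1 (hc a ha))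
    False.elim

/-- The fibres of `a ↦ ⁅a, x⁆` modulo `A`. -/
theorem fibre {x a b : G} (ha : a ∈ A) (hb : b ∈ A)
    (hab : ∀ u ∈ cm A x, ∀ v ∈ cm A x, u * v = v * u) (hm : ⁅b, x⁆⁻¹ * ⁅a, x⁆ ∈ A) :
    b⁻¹ * a ∈ A ⊓ Subgroup.centralizer (cm A x : Set G) := by
  set c := b⁻¹ * a with hc
  have hcA : c ∈ A := mul_mem (inv_mem hb) ha
  have e : ⁅a, x⁆ = b * ⁅c, x⁆ * b⁻¹ * ⁅b, x⁆ := by
    rw [← comm_left_mul, hc, mul_inv_cancel_left]
  have hcom : Commute (b * ⁅c, x⁆ * b⁻¹) ⁅b, x⁆ := by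
    refine hab _ ?_ _ (mem_cm hb)
    rw [show b * ⁅c, x⁆ * b⁻¹ = ⁅a, x⁆ * ⁅b, x⁆⁻¹ by rw [e]; group]
    exact mul_mem (mem_cm ha) (inv_mem (mem_cm hb))
  have hm' : b * ⁅c, x⁆ * b⁻¹ = ⁅b, x⁆⁻¹ * ⁅a, x⁆ := by
    rw [e, hcom.eq, inv_mul_cancel_left]
  have hucA : ⁅c, x⁆ ∈ A := by
    rw [show ⁅c, x⁆ = b⁻¹ * (b * ⁅c, x⁆ * b⁻¹) * b by group, hm']
    exact mul_mem (mul_mem (inv_mem hb) hm) hb
  refine Subgroup.mem_inf.2 ⟨hcA, ?_⟩
  rw [cm, Subgroup.centralizer_closure, Subgroup.mem_centralizer_iff]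
  rintro _ ⟨q, hq, rfl⟩
  have h1 : c * ⁅q, x⁆ * c⁻¹ * ⁅c, x⁆ = q * ⁅c, x⁆ * q⁻¹ * ⁅q, x⁆ := by
    rw [← comm_left_mul, ← comm_left_mul, (h.acomm hcA hq).eq]
  rw [(h.acomm hq hucA).eq, mul_inv_cancel_right, hab _ (mem_cm hcA) _ (mem_cm hq)] at h1
  exact (mul_inv_eq_iff_eq_mul.1 (mul_right_cancel h1)).symm

theorem cm_inf (x : G) (hab : ∀ u ∈ cm A x, ∀ v ∈ cm A x, u * v = v * u) :
    cm A x ⊓ (A ⊓ Subgroup.centralizer (cm A x : Set G)) = cm A x ⊓ A :=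
  le_antisymm (inf_le_inf_left _ inf_le_left) fun y hy =>
    ⟨hy.1, hy.2, Subgroup.mem_centralizer_iff.2 fun z hz => hab z hz y hy.1⟩

theorem card_le_of_abelian {M D : Subgroup G} (hMS : M ≤ S) (hDS : D ≤ S)
    (hM : ∀ x ∈ M, ∀ y ∈ M, x * y = y * x) (hD : ∀ x ∈ D, ∀ y ∈ D, x * y = y * x)
    (hMD : D ≤ Subgroup.centralizer (M : Set G)) :
    Nat.card ↥M * Nat.card ↥D ≤ Nat.card ↥A * Nat.card ↥(M ⊓ D) := by
  rw [← card_sup_mul_inf hMD]
  exact Nat.mul_le_mul_right _ (h.hA.2.2 _ (sup_le hMS hDS)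
    ⟨ZJ.sml_of_comm (p := p) (e := False) (comm_sup hM hD hMD) False.elim |>.1, False.elim⟩)

theorem isMax_sup {M D : Subgroup G} (hMS : M ≤ S) (hDS : D ≤ S)
    (hM : ∀ x ∈ M, ∀ y ∈ M, x * y = y * x) (hD : ∀ x ∈ D, ∀ y ∈ D, x * y = y * x)
    (hMD : D ≤ Subgroup.centralizer (M : Set G))
    (hc : Nat.card ↥A * Nat.card ↥(M ⊓ D) ≤ Nat.card ↥M * Nat.card ↥D) :
    IsMaxIn p False S (M ⊔ D) := by
  refine ⟨sup_le hMS hDS, ZJ.sml_of_comm (comm_sup hM hD hMD) False.elim, fun B hB hBs => ?_⟩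
  refine (h.hA.2.2 B hB hBs).trans (Nat.le_of_mul_le_mul_right ?_ (Nat.card_pos (α := ↥(M ⊓ D))))
  rwa [card_sup_mul_inf hMD]

/-- Thompson's replacement, with the surjectivity it carries. -/
theorem replacement (x : G) (hMS : cm A x ≤ S) (hab : ∀ u ∈ cm A x, ∀ v ∈ cm A x, u * v = v * u) :
    IsMaxIn p False S (cm A x ⊔ (A ⊓ Subgroup.centralizer (cm A x : Set G))) ∧
      Nat.card ↥(cm A x) * Nat.card ↥(A ⊓ Subgroup.centralizer (cm A x : Set G)) =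
        Nat.card ↥A * Nat.card ↥(cm A x ⊓ A) ∧
      ∀ m ∈ cm A x, ∃ c ∈ A, ⁅c, x⁆⁻¹ * m ∈ A := by
  set M := cm A x with hM
  set D := A ⊓ Subgroup.centralizer (M : Set G) with hD
  have hDS : D ≤ S := inf_le_left.trans h.hA.1
  have hDc : ∀ x ∈ D, ∀ y ∈ D, x * y = y * x := fun x hx y hy => h.acomm hx.1 hy.1
  have hMD : D ≤ Subgroup.centralizer (M : Set G) := inf_le_right
  let D' := D.subgroupOf A
  let M' := (M ⊓ A).subgroupOf M
  let f : ↥A ⧸ D' → ↥M ⧸ M' := fun q => QuotientGroup.mk ⟨⁅(q.out : G), x⁆, mem_cm q.out.2⟩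
  have hf : Function.Injective f := by
    intro q r hqr
    have h1 := QuotientGroup.eq.1 hqr
    have h2 := h.fibre r.out.2 q.out.2 hab (Subgroup.mem_subgroupOf.1 h1).2
    rw [← q.out_eq, ← r.out_eq]
    exact QuotientGroup.eq.2 (Subgroup.mem_subgroupOf.2 h2)
  have hle : Nat.card (↥A ⧸ D') ≤ Nat.card (↥M ⧸ M') := Nat.card_le_card_of_injective f hf
  have eA : Nat.card ↥A = Nat.card (↥A ⧸ D') * Nat.card ↥D := by
    rw [Subgroup.card_eq_card_quotient_mul_card_subgroup D',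
      Nat.card_congr (Subgroup.subgroupOfEquivOfLe (inf_le_left : D ≤ A)).toEquiv]
  have eM : Nat.card ↥M = Nat.card (↥M ⧸ M') * Nat.card ↥(M ⊓ A) := by
    rw [Subgroup.card_eq_card_quotient_mul_card_subgroup M',
      Nat.card_congr (Subgroup.subgroupOfEquivOfLe (inf_le_left : M ⊓ A ≤ M)).toEquiv]
  have hinf : M ⊓ D = M ⊓ A := h.cm_inf x hab
  have hge : Nat.card ↥A * Nat.card ↥(M ⊓ A) ≤ Nat.card ↥M * Nat.card ↥D := by
    rw [eA, eM, mul_right_comm (Nat.card (↥M ⧸ M'))]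
    refine (le_of_eq ?_).trans (Nat.mul_le_mul_right (Nat.card ↥(M ⊓ A))
      (Nat.mul_le_mul_right (Nat.card ↥D) hle))
    rfl
  have hlew := h.card_le_of_abelian hMS hDS hab hDc hMD
  rw [hinf] at hlew
  have heq : Nat.card ↥M * Nat.card ↥D = Nat.card ↥A * Nat.card ↥(M ⊓ A) := le_antisymm hlew hge
  refine ⟨h.isMax_sup hMS hDS hab hDc hMD (hinf ▸ hge), heq, fun m hm => ?_⟩
  have hcard : Nat.card (↥A ⧸ D') = Nat.card (↥M ⧸ M') := by
    rw [eA, eM] at heq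
    refine Nat.eq_of_mul_eq_mul_right (Nat.mul_pos (Nat.card_pos (α := ↥D))
      (Nat.card_pos (α := ↥(M ⊓ A)))) ?_
    simpa [mul_assoc, mul_comm, mul_left_comm] using heq.symm
  obtain ⟨q, hq⟩ := ((Nat.bijective_iff_injective_and_card f).2 ⟨hf, hcard⟩).2 (QuotientGroup.mk ⟨m, hm⟩)
  exact ⟨q.out, q.out.2, (Subgroup.mem_subgroupOf.1 (QuotientGroup.eq.1 hq)).2⟩

/-- A member of largest order `M C_A(M)`, `M ≤ T`, outside `T`: the centralizer covers `A` modulo `T`. -/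
theorem cover {M : Subgroup G} (hMS : M ≤ S) (hMT : M ≤ T)
    (hM : ∀ x ∈ M, ∀ y ∈ M, x * y = y * x)
    (hc : Nat.card ↥A * Nat.card ↥(M ⊓ (A ⊓ Subgroup.centralizer (M : Set G))) ≤
      Nat.card ↥M * Nat.card ↥(A ⊓ Subgroup.centralizer (M : Set G)))
    (hout : ¬ A ⊓ Subgroup.centralizer (M : Set G) ≤ T) :
    (A ⊓ Subgroup.centralizer (M : Set G)) ⊔ (A ⊓ T) = A ∧
      IsMaxIn p False S (M ⊔ (A ⊓ Subgroup.centralizer (M : Set G))) ∧
      Nat.card ↥(A ⊓ T) ≤ Nat.card ↥((M ⊔ (A ⊓ Subgroup.centralizer (M : Set G))) ⊓ T) := by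
  set D := A ⊓ Subgroup.centralizer (M : Set G) with hD
  have hDS : D ≤ S := inf_le_left.trans h.hA.1
  have hDc : ∀ x ∈ D, ∀ y ∈ D, x * y = y * x := fun x hx y hy => h.acomm hx.1 hy.1
  have hU := h.isMax_sup hMS hDS hM hDc inf_le_right hc
  set U := M ⊔ D with hUdef
  have hUA : Nat.card ↥U = Nat.card ↥A := le_antisymm (h.hA.2.2 U hU.1 hU.2.1) (hU.2.2 A h.hA.1 h.hA.2.1)
  have hUout : ¬ U ≤ T := fun hle => hout (le_sup_right.trans hle)
  have hsub : M ⊔ (D ⊓ T) ≤ U ⊓ T :=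
    sup_le (le_inf le_sup_left hMT) (inf_le_inf_right _ le_sup_right)
  have e1 := card_sup_mul_inf (inf_le_left.trans inf_le_right : D ⊓ T ≤ Subgroup.centralizer (M : Set G))
  have e2 := card_sup_mul_inf (inf_le_right : D ≤ Subgroup.centralizer (M : Set G))
  rw [show M ⊓ (D ⊓ T) = M ⊓ D by
    rw [← inf_assoc]; exact inf_eq_left.2 (inf_le_left.trans hMT)] at e1
  rw [← hUdef, hUA] at e2
  have hDA : D ⊓ T ≤ Subgroup.centralizer (D : Set G) := fun x hx =>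
    Subgroup.mem_centralizer_iff.2 fun y hy => hDc y hy x hx.1
  have hAD : A ⊓ T ≤ Subgroup.centralizer (D : Set G) := fun x hx =>
    Subgroup.mem_centralizer_iff.2 fun y hy => h.acomm hy.1 hx.1
  have e3 := card_sup_mul_inf hAD
  rw [show D ⊓ (A ⊓ T) = D ⊓ T by rw [← inf_assoc, inf_eq_left.2 (inf_le_left : D ≤ A)]] at e3
  have hsup : D ⊔ (A ⊓ T) ≤ A := sup_le inf_le_left inf_le_left
  have h1 : Nat.card ↥(M ⊔ (D ⊓ T)) ≤ Nat.card ↥(U ⊓ T) := Subgroup.card_le_of_le hsub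
  have h2 := h.hmaxT U hU hUout
  have h3 : Nat.card ↥(D ⊔ (A ⊓ T)) ≤ Nat.card ↥A := Subgroup.card_le_of_le hsup
  have pm := Nat.card_pos (α := ↥(M ⊓ D))
  have pdt := Nat.card_pos (α := ↥(D ⊓ T))
  have pd := Nat.card_pos (α := ↥D)
  have hkey : Nat.card ↥(M ⊔ (D ⊓ T)) * Nat.card ↥D = Nat.card ↥A * Nat.card ↥(D ⊓ T) := by
    refine Nat.eq_of_mul_eq_mul_right pm ?_
    rw [mul_right_comm, e1, mul_right_comm (Nat.card ↥A), e2]
    ring
  have hge : Nat.card ↥A ≤ Nat.card ↥(D ⊔ (A ⊓ T)) := by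
    refine Nat.le_of_mul_le_mul_right ?_ pdt
    rw [e3, ← hkey, mul_comm (Nat.card ↥D)]
    exact Nat.mul_le_mul_right _ (h1.trans h2)
  refine ⟨Subgroup.eq_of_le_of_card_ge hsup hge, hU, le_trans ?_ h1⟩
  refine Nat.le_of_mul_le_mul_right ?_ pd
  rw [hkey, mul_comm (Nat.card ↥(A ⊓ T)), ← e3]
  exact Nat.mul_le_mul_right _ h3

/-- Inside `V`: either `M` lies in `A` or its centralizer in `A` lies in `T`. -/
theorem le_A_of_out {M : Subgroup G} (hMV : M ≤ V)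
    (hc : Nat.card ↥A * Nat.card ↥(M ⊓ (A ⊓ Subgroup.centralizer (M : Set G))) ≤
      Nat.card ↥M * Nat.card ↥(A ⊓ Subgroup.centralizer (M : Set G)))
    (hout : ¬ A ⊓ Subgroup.centralizer (M : Set G) ≤ T) : M ≤ A := by
  have hMT := hMV.trans (h.hVC.trans h.hCT)
  obtain ⟨-, hU, hT⟩ := h.cover (hMT.trans h.hTS) hMT (comm_of_le h.vcomm hMV) hc hout
  set D := A ⊓ Subgroup.centralizer (M : Set G) with hD
  have hAV : A ⊓ V ≤ D := fun x hx => ⟨hx.1, Subgroup.mem_centralizer_iff.2 fun y hy =>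
    h.vcomm y (hMV hy) x hx.2⟩
  have hmax := h.hmaxV _ hU (fun hle => hout (le_sup_right.trans hle)) hT
  have heq : A ⊓ V = (M ⊔ D) ⊓ V := Subgroup.eq_of_le_of_card_ge
    (le_inf (hAV.trans le_sup_right) inf_le_right) hmax
  exact (heq ▸ le_inf le_sup_left hMV : M ≤ A ⊓ V).trans inf_le_left

theorem dich_V {v : G} (hv : v ∈ V) (hout : ¬ A ⊓ Subgroup.centralizer (cm A v : Set G) ≤ T) :
    cm A v ≤ A := by
  have hMV : cm A v ≤ V := cm_le fun a _ => h.comm_mem_V hv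
  obtain ⟨-, he, -⟩ := h.replacement v (hMV.trans (h.hVC.trans (h.hCT.trans h.hTS)))
    (comm_of_le h.vcomm hMV)
  refine h.le_A_of_out hMV ?_ hout
  rw [h.cm_inf v (comm_of_le h.vcomm hMV), he]

theorem best_inf {M : Subgroup G} (hM : Best V A M) :
    M ⊓ (A ⊓ Subgroup.centralizer (M : Set G)) = A ⊓ V :=
  le_antisymm (fun x hx => ⟨hx.2.1, hM.2.1 hx.1⟩) fun x hx => ⟨hM.1 hx, hx.1,
    Subgroup.mem_centralizer_iff.2 fun y hy => h.vcomm y (hM.2.1 hy) x hx.2⟩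

theorem best_sup {M₁ M₂ : Subgroup G} (h1 : Best V A M₁) (h2 : Best V A M₂) : Best V A (M₁ ⊔ M₂) := by
  have hV := h.hVC.trans (h.hCT.trans h.hTS)
  refine ⟨h1.1.trans le_sup_left, sup_le h1.2.1 h2.2.1, ?_⟩
  set D₁ := A ⊓ Subgroup.centralizer (M₁ : Set G) with hD₁
  set D₂ := A ⊓ Subgroup.centralizer (M₂ : Set G) with hD₂
  have hD : A ⊓ Subgroup.centralizer ((M₁ ⊔ M₂ : Subgroup G) : Set G) = D₁ ⊓ D₂ := by
    refine le_antisymm ?_ fun x hx => ⟨hx.1.1, ?_⟩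
    · exact le_inf (inf_le_inf_left _ (Subgroup.centralizer_le (SetLike.coe_subset_coe.2 le_sup_left)))
        (inf_le_inf_left _ (Subgroup.centralizer_le (SetLike.coe_subset_coe.2 le_sup_right)))
    · exact (Subgroup.le_centralizer_iff.1 (sup_le (Subgroup.le_centralizer_iff.1
        (Subgroup.zpowers_le.2 hx.1.2)) (Subgroup.le_centralizer_iff.1
        (Subgroup.zpowers_le.2 hx.2.2)))) (Subgroup.mem_zpowers x)
  rw [hD]
  have hDA : D₁ ⊔ D₂ ≤ A := sup_le inf_le_left inf_le_left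
  have hDc : D₁ ⊔ D₂ ≤ Subgroup.centralizer ((M₁ ⊓ M₂ : Subgroup G) : Set G) :=
    sup_le (inf_le_right.trans (Subgroup.centralizer_le (SetLike.coe_subset_coe.2 inf_le_left)))
      (inf_le_right.trans (Subgroup.centralizer_le (SetLike.coe_subset_coe.2 inf_le_right)))
  have hle := h.card_le_of_abelian ((inf_le_left.trans h1.2.1).trans hV) (hDA.trans h.hA.1)
    (comm_of_le h.vcomm (inf_le_left.trans h1.2.1))
    (comm_of_le (fun x hx y hy => h.acomm hx hy) hDA) hDc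
  rw [show M₁ ⊓ M₂ ⊓ (D₁ ⊔ D₂) = A ⊓ V from le_antisymm
    (fun x hx => ⟨hDA hx.2, h1.2.1 hx.1.1⟩) fun x hx => ⟨⟨h1.1 hx, h2.1 hx⟩,
      Subgroup.mem_sup_left ⟨hx.1, Subgroup.mem_centralizer_iff.2 fun y hy =>
        h.vcomm y (h1.2.1 hy) x hx.2⟩⟩] at hle
  have eM := card_sup_mul_inf (H := M₁) (K := M₂)
    (fun x hx => Subgroup.mem_centralizer_iff.2 fun y hy => h.vcomm y (h1.2.1 hy) x (h2.2.1 hx))
  have eD := card_sup_mul_inf (H := D₁) (K := D₂)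
    (fun x hx => Subgroup.mem_centralizer_iff.2 fun y hy => h.acomm hy.1 hx.1)
  refine Nat.le_of_mul_le_mul_right ?_
    (Nat.mul_pos (Nat.card_pos (α := ↥A)) (Nat.card_pos (α := ↥(A ⊓ V))))
  calc Nat.card ↥A * Nat.card ↥(A ⊓ V) * (Nat.card ↥A * Nat.card ↥(A ⊓ V))
      ≤ Nat.card ↥M₁ * Nat.card ↥D₁ * (Nat.card ↥M₂ * Nat.card ↥D₂) := Nat.mul_le_mul h1.2.2 h2.2.2
    _ = Nat.card ↥(M₁ ⊔ M₂) * Nat.card ↥(D₁ ⊓ D₂) *
          (Nat.card ↥(M₁ ⊓ M₂) * Nat.card ↥(D₁ ⊔ D₂)) := by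
        rw [mul_mul_mul_comm, ← eM, ← eD]; ring
    _ ≤ _ := Nat.mul_le_mul_left _ hle

theorem exists_best : ∃ M, Best V A M ∧ ∀ v ∈ V, cm A v ≤ M := by
  have hV := h.hVC.trans (h.hCT.trans h.hTS)
  have h0 : Best V A (A ⊓ V) := by
    refine ⟨le_rfl, inf_le_right, le_of_eq ?_⟩
    have hle : A ≤ Subgroup.centralizer ((A ⊓ V : Subgroup G) : Set G) := fun x hx =>
      Subgroup.mem_centralizer_iff.2 fun y hy => h.acomm hy.1 hx
    rw [show A ⊓ Subgroup.centralizer ((A ⊓ V : Subgroup G) : Set G) = A from inf_eq_left.2 hle,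
      mul_comm]
  obtain ⟨M, hM, hmax⟩ := (Set.toFinite {M | Best V A M}).exists_maximal ⟨_, h0⟩
  refine ⟨M, hM, fun v hv => ?_⟩
  have hMv : cm A v ≤ V := cm_le fun a _ => h.comm_mem_V hv
  obtain ⟨-, he, -⟩ := h.replacement v (hMv.trans hV) (comm_of_le h.vcomm hMv)
  set N := cm A v ⊔ (A ⊓ V) with hN
  have hcomm : A ⊓ V ≤ Subgroup.centralizer (cm A v : Set G) := fun x hx =>
    Subgroup.mem_centralizer_iff.2 fun y hy => h.vcomm y (hMv hy) x hx.2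
  have hcN : A ⊓ Subgroup.centralizer (N : Set G) = A ⊓ Subgroup.centralizer (cm A v : Set G) := by
    refine le_antisymm (inf_le_inf_left _ (Subgroup.centralizer_le (SetLike.coe_subset_coe.2 le_sup_left))) fun x hx => ⟨hx.1, ?_⟩
    have h2 : A ⊓ V ≤ Subgroup.centralizer (Subgroup.zpowers x : Set G) := fun y hy =>
      Subgroup.mem_centralizer_iff.2 fun z hz => h.acomm (Subgroup.zpowers_le.2 hx.1 hz) hy.1
    exact Subgroup.le_centralizer_iff.1 (sup_le (Subgroup.le_centralizer_iff.1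
      (Subgroup.zpowers_le.2 hx.2)) h2) (Subgroup.mem_zpowers x)
  have hB : Best V A N := by
    refine ⟨le_sup_right, sup_le hMv inf_le_right, le_of_eq ?_⟩
    have e := card_sup_mul_inf hcomm
    rw [show cm A v ⊓ (A ⊓ V) = cm A v ⊓ A by
      rw [← inf_assoc]; exact inf_eq_left.2 (inf_le_left.trans hMv)] at e
    rw [hcN]
    refine Nat.eq_of_mul_eq_mul_right (Nat.card_pos (α := ↥(cm A v ⊓ A))) ?_
    rw [mul_right_comm (Nat.card ↥N), e, mul_right_comm (Nat.card ↥(cm A v)), he]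
    ring
  exact (le_sup_left.trans le_sup_right).trans
    (hmax (h.best_sup hM hB) (le_sup_left : M ≤ M ⊔ N))

end Cfg

end Cfsg.Agent.JKiller
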