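import Cfsg.Agent.Lib.JKiller.CaseB

/-!
Degree five modulo `V` on `C` when `⁅A, V⁆ ≤ A`.
-/

set_option autoImplicit false
set_option linter.style.haveILetI false
set_option linter.unusedSectionVars false

namespace Cfsg.Agent.JKiller

open Cfsg
open Cfsg.Agent.ZJ (IsMaxIn)
open scoped commutatorElement

universe u

variable {G : Type u} [Group G] [Finite G] {p : ℕ} [Fact p.Prime] {S T C V A : Subgroup G}

/-- `C, ⁅A, C⁆, ⁅A, ⁅A, C⁆⁆, …` -/
def lev (A C : Subgroup G) : ℕ → Subgroup G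
  | 0 => C
  | n + 1 => ⁅A, lev A C n⁆

theorem mem_lev_succ {A C : Subgroup G} {n : ℕ} {a x : G} (ha : a ∈ A) (hx : x ∈ lev A C n) :
    ⁅a, x⁆ ∈ lev A C (n + 1) := Subgroup.commutator_mem_commutator ha hx

namespace Cfg

variable (h : Cfg p S T C V A)
include h

theorem lev_le (n : ℕ) : lev A C n ≤ C := by
  induction n with
  | zero => exact le_rfl
  | succ n ih => exact Subgroup.commutator_le.2 fun _ _ _ hx => h.comm_mem_C (ih hx)

theorem lev_anti : Antitone (lev A C) := by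
  refine antitone_nat_of_succ_le fun n => ?_
  induction n with
  | zero => exact h.lev_le 1
  | succ n ih => exact Subgroup.commutator_mono le_rfl ih

theorem exists_lev_le (hS : IsPGroup p ↥S) : ∃ n, lev A C n ≤ V := by
  obtain ⟨m, ⟨n, rfl⟩, hmin⟩ :=
    (Set.toFinite (Set.range (lev A C))).exists_minimal ⟨_, 0, rfl⟩
  refine ⟨n, le_trans (Fusion.le_of_le_commutator_sup hS.isNilpotent
    ((h.lev_le n).trans (h.hCT.trans h.hTS)) bot_le
    (le_top.trans (Subgroup.normalizer_eq_top (H := (⊥ : Subgroup G))).ge) ?_) bot_le⟩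
  refine (hmin ⟨n + 1, rfl⟩ (h.lev_anti (Nat.le_succ n))).trans
    ((Subgroup.commutator_comm A _).le.trans ?_)
  exact (Subgroup.commutator_mono le_rfl h.hA.1).trans le_sup_left

theorem omega_mem {x y : G} (hx : x ∈ C) (hy : y ∈ C) : ⁅x, y⁆ ∈ V := h.hTC x (h.hCT hx) y hy

theorem omega_mul_left {x y z : G} (hx : x ∈ C) (hy : y ∈ C) (hz : z ∈ C) :
    ⁅x * y, z⁆ = ⁅x, z⁆ * ⁅y, z⁆ := by
  rw [comm_left_mul, ← h.hcen _ (h.omega_mem hy hz) x hx, mul_inv_cancel_right,
    h.vcomm _ (h.omega_mem hy hz) _ (h.omega_mem hx hz)]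

theorem omega_mul_right {x y z : G} (hx : x ∈ C) (hy : y ∈ C) (hz : z ∈ C) :
    ⁅x, y * z⁆ = ⁅x, y⁆ * ⁅x, z⁆ :=
  comm_mul_of_commute (h.hcen _ (h.omega_mem hx hz) _ hy).symm

/-- How `⁅b, ·⁆` acts on a commutator. -/
theorem omega_expand {b u w : G} (hu : u ∈ C) (hw : w ∈ C) :
    ⁅b, ⁅u, w⁆⁆ = ⁅⁅b, u⁆, ⁅b, w⁆⁆ * ⁅⁅b, u⁆, w⁆ * ⁅u, ⁅b, w⁆⁆ := by
  have hb : ∀ x, b * x * b⁻¹ = ⁅b, x⁆ * x := fun x => by simp only [commutatorElement_def]; group
  rw [show ⁅b, ⁅u, w⁆⁆ = ⁅b * u * b⁻¹, b * w * b⁻¹⁆ * ⁅u, w⁆⁻¹ by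
    simp only [commutatorElement_def]; group, hb, hb,
    h.omega_mul_left (h.comm_mem_C hu) hu (mul_mem (h.comm_mem_C hw) hw),
    h.omega_mul_right (h.comm_mem_C hu) (h.comm_mem_C hw) hw,
    h.omega_mul_right hu (h.comm_mem_C hw) hw]
  group

/-- A subgroup of `C` pulled back along `⁅a, ·⁆`. -/
def pre (a : G) (K : Subgroup G) (hK : V ≤ K) : Subgroup G where
  carrier := {y | y ∈ C ∧ ⁅a, y⁆ ∈ K}
  one_mem' := ⟨one_mem _, by simp⟩
  mul_mem' := fun {x y} hx hy => ⟨mul_mem hx.1 hy.1, by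
    rw [comm_right_mul, show x * ⁅a, y⁆ * x⁻¹ = ⁅x, ⁅a, y⁆⁆ * ⁅a, y⁆ by
      simp only [commutatorElement_def]; group]
    exact mul_mem hx.2 (mul_mem (hK (h.omega_mem hx.1 (h.comm_mem_C hy.1))) hy.2)⟩
  inv_mem' := fun {x} hx => ⟨inv_mem hx.1, by
    rw [show ⁅a, x⁻¹⁆ = ⁅x⁻¹, ⁅a, x⁆⁻¹⁆ * ⁅a, x⁆⁻¹ by simp only [commutatorElement_def]; group]
    exact mul_mem (hK (h.omega_mem (inv_mem hx.1) (inv_mem (h.comm_mem_C hx.1)))) (inv_mem hx.2)⟩

theorem lev_one_T {e z : G} (hVA : ∀ a ∈ A, ∀ v ∈ V, ⁅a, v⁆ ∈ A) (he : e ∈ A) (heT : e ∈ T)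
    (hz : z ∈ lev A C 1) : ⁅e, z⁆ ∈ A := by
  have hle : lev A C 1 ≤ C := h.lev_le 1
  induction hz using Subgroup.closure_induction with
  | mem y hy =>
    obtain ⟨a, ha, w, hw, rfl⟩ := hy
    rw [h.swap_C ha he heT hw]
    exact hVA a ha _ (h.hTC e heT w hw)
  | one => simp
  | mul x y hx hy ihx ihy =>
    rw [comm_mul_of_commute (h.hcen _ (h.hTC e heT y (hle hy)) x (hle hx)).symm]
    exact mul_mem ihx ihy
  | inv x hx ihx =>
    rw [eq_inv_of_mul_eq_one_right (a := ⁅e, x⁆) (b := ⁅e, x⁻¹⁆) (by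
      rw [← comm_mul_of_commute (h.hcen _ (h.hTC e heT _ (inv_mem (hle hx))) x (hle hx)).symm,
        mul_inv_cancel, commutatorElement_one_right])]
    exact inv_mem ihx

theorem lev_two_centralizer (hVA : ∀ a ∈ A, ∀ v ∈ V, ⁅a, v⁆ ∈ A) :
    lev A C 2 ≤ Subgroup.centralizer ((A ⊓ T : Subgroup G) : Set G) := by
  refine Subgroup.commutator_le.2 fun b hb z hz => Subgroup.mem_centralizer_iff.2 fun e he => ?_
  rw [← commutatorElement_eq_one_iff_mul_comm, h.swap_C hb he.1 he.2 (h.lev_le 1 hz)]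
  exact comm_eq_one (h.acomm hb (h.lev_one_T hVA he.1 he.2 hz))

/-- Isotropy: levels `i`, `j` commute once `i + j` exceeds the height. -/
theorem lev_commute (hVA : ∀ a ∈ A, ∀ v ∈ V, ⁅a, v⁆ ∈ A) {n : ℕ} (hn : lev A C n ≤ V) :
    ∀ i j, n + 1 ≤ i + j → ∀ u ∈ lev A C i, ∀ v ∈ lev A C j, ⁅u, v⁆ = 1 := by
  suffices key : ∀ d i, n ≤ i + d → ∀ j, n + 1 ≤ i + j → ∀ u ∈ lev A C i, ∀ v ∈ lev A C j, ⁅u, v⁆ = 1
    from fun i => key n i (Nat.le_add_left _ _)
  intro d
  induction d with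
  | zero =>
    intro i hi j _ u hu v hv
    exact comm_eq_one (h.hcen u (hn (h.lev_anti (by simpa using hi) hu)) v (h.lev_le j hv))
  | succ d ih =>
    intro i hi j hij u hu
    by_cases hid : n ≤ i + d
    · exact ih i hid j hij u hu
    obtain ⟨k, rfl⟩ : ∃ k, j = k + 2 := ⟨j - 2, by omega⟩
    have huC := h.lev_le i hu
    have hVc : V ≤ Subgroup.centralizer ({u} : Set G) := fun x hx =>
      Subgroup.mem_centralizer_iff.2 fun z hz => by
        rw [Set.mem_singleton_iff.1 hz]; exact (h.hcen x hx u huC).symm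
    have main : lev A C (k + 2) ≤ Subgroup.centralizer ({u} : Set G) := by
      refine Subgroup.commutator_le.2 fun a ha y hy => ?_
      have hpre : lev A C (k + 1) ≤ h.pre a _ hVc := by
        refine Subgroup.commutator_le.2 fun b hb w hw => ⟨h.comm_mem_C (h.lev_le k hw),
          Subgroup.mem_centralizer_iff.2 fun z hz => ?_⟩
        rw [Set.mem_singleton_iff.1 hz, ← commutatorElement_eq_one_iff_mul_comm]
        have hwC := h.lev_le k hw
        have hub := mem_lev_succ hb hu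
        have hwb := mem_lev_succ hb hw
        have hubC := h.comm_mem_C (a := b) huC
        have hwbC := h.comm_mem_C (a := b) hwC
        have hz1 : ∀ i' j', i + 1 ≤ i' → n + 1 ≤ i' + j' → ∀ x ∈ lev A C i', ∀ y ∈ lev A C j',
            ⁅x, y⁆ = 1 := fun i' j' h1 h2 => ih i' (by omega) j' h2
        have h0 : ⁅a, ⁅b, ⁅u, w⁆⁆⁆ = 1 :=
          comm_eq_one (h.acomm ha (hVA b hb _ (h.omega_mem huC hwC)))
        have v1 := h.omega_mem hubC hwbC
        have v2 := h.omega_mem hubC hwC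
        have v3 := h.omega_mem huC hwbC
        rw [h.omega_expand huC hwC, h.comm_mul_V (mul_mem v1 v2) v3, h.comm_mul_V v1 v2,
          h.omega_expand hubC hwbC, h.omega_expand hubC hwC, h.omega_expand huC hwbC] at h0
        have hua := mem_lev_succ ha hu
        have huab := mem_lev_succ ha hub
        have hwa := mem_lev_succ ha hw
        have hwab := mem_lev_succ ha hwb
        rw [hz1 (i + 1 + 1) (k + 1 + 1) (by omega) (by omega) _ huab _ hwab,
          hz1 (i + 1 + 1) (k + 1) (by omega) (by omega) _ huab _ hwb,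
          hz1 (i + 1) (k + 1 + 1) le_rfl (by omega) _ hub _ hwab,
          hz1 (i + 1 + 1) (k + 1) (by omega) (by omega) _ huab _ hwa,
          hz1 (i + 1 + 1) k (by omega) (by omega) _ huab _ hw,
          hz1 (i + 1) (k + 1) le_rfl (by omega) _ hub _ hwa,
          hz1 (i + 1) (k + 1 + 1) le_rfl (by omega) _ hua _ hwab,
          hz1 (i + 1) (k + 1) le_rfl (by omega) _ hua _ hwb]  at h0
        simpa only [one_mul] using h0
      exact (hpre hy).2
    exact fun v hv => commutatorElement_eq_one_iff_mul_comm.2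
      (Subgroup.mem_centralizer_iff.1 (main hv) u rfl)

/-- The height is at most five. -/
theorem lev_five_le (hS : IsPGroup p ↥S) (hVA : ∀ a ∈ A, ∀ v ∈ V, ⁅a, v⁆ ∈ A) : lev A C 5 ≤ V := by
  classical
  have hex := h.exists_lev_le hS
  set n := Nat.find hex with hndef
  have hn : lev A C n ≤ V := Nat.find_spec hex
  by_cases h5 : n ≤ 5
  · exact (h.lev_anti h5).trans hn
  exfalso
  obtain ⟨m, hm⟩ : ∃ m, n = m + 3 := ⟨n - 3, by omega⟩
  have hm3 : 3 ≤ m := by omega
  have hcom := h.lev_commute hVA hn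
  have hmemA : ∀ x ∈ lev A C m, ∀ a ∈ A, ⁅a, x⁆ ∈ A := by
    intro x hx
    set M := cm A x with hM
    have hML : M ≤ lev A C (m + 1) := cm_le fun a ha => mem_lev_succ ha hx
    have hMT : M ≤ T := hML.trans ((h.lev_le _).trans h.hCT)
    have hMc : ∀ u ∈ M, ∀ v ∈ M, u * v = v * u := fun u hu v hv =>
      commutatorElement_eq_one_iff_mul_comm.1
        (hcom (m + 1) (m + 1) (by omega) u (hML hu) v (hML hv))
    have hxA0 : x ∈ Subgroup.centralizer ((A ⊓ T : Subgroup G) : Set G) :=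
      h.lev_two_centralizer hVA (h.lev_anti (show 2 ≤ m by omega) hx)
    have hMA0 : A ⊓ T ≤ Subgroup.centralizer (M : Set G) := fun e he =>
      Subgroup.mem_centralizer_iff.2 fun y hy => (Subgroup.mem_centralizer_iff.1
        (h.lev_two_centralizer hVA (h.lev_anti (show 2 ≤ m + 1 by omega) (hML hy))) e he).symm
    obtain ⟨hU, he, -⟩ := h.replacement x (hMT.trans h.hTS) hMc
    set D := A ⊓ Subgroup.centralizer (M : Set G) with hD
    suffices hMA : M ≤ A from fun a ha => hMA (mem_cm ha)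
    by_cases hout : D ≤ T
    · have hxc : ∀ y ∈ M ⊔ D, y * x = x * y := by
        have hle : M ⊔ D ≤ Subgroup.centralizer ({x} : Set G) := sup_le
          (fun u hu => Subgroup.mem_centralizer_iff.2 fun z hz => by
            rw [Set.mem_singleton_iff.1 hz]
            exact commutatorElement_eq_one_iff_mul_comm.1 (hcom m (m + 1) (by omega) x hx u (hML hu)))
          (fun e he' => Subgroup.mem_centralizer_iff.2 fun z hz => by
            rw [Set.mem_singleton_iff.1 hz]
            exact (Subgroup.mem_centralizer_iff.1 hxA0 e ⟨he'.1, hout he'⟩).symm)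
        exact fun y hy => (Subgroup.mem_centralizer_iff.1 (hle hy) x rfl).symm
      have hxU := ZJ.mem_of_centralizes hU (h.hTS (h.hCT (h.lev_le m hx))) hxc False.elim
      rw [← SetLike.mem_coe, Subgroup.coe_mul_of_right_le_normalizer_left _ _
        ((inf_le_right : D ≤ _).trans (Subgroup.centralizer_le_normalizer _))] at hxU
      obtain ⟨y, hy, e, he', hye⟩ := Set.mem_mul.1 hxU
      have hle : M ≤ ⁅A, M⁆ := cm_le fun a ha => by
        rw [← hye, comm_right_mul, comm_eq_one (h.acomm ha he'.1)]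
        simpa using Subgroup.commutator_mem_commutator ha hy
      exact (Fusion.le_of_le_commutator_sup hS.isNilpotent (hMT.trans h.hTS) bot_le
        (le_top.trans (Subgroup.normalizer_eq_top (H := (⊥ : Subgroup G))).ge)
        (hle.trans ((Subgroup.commutator_comm A M).le.trans
          ((Subgroup.commutator_mono le_rfl h.hA.1).trans le_sup_left)))).trans bot_le
    · obtain ⟨hsup, -, -⟩ := h.cover (hMT.trans h.hTS) hMT hMc (by rw [h.cm_inf x hMc, he]) hout
      have hAD : A ≤ D := hsup.ge.trans (sup_le le_rfl (le_inf inf_le_left hMA0))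
      exact fun y hy => h.mem_A_of_centralizes (h.hTS (hMT hy)) fun a ha =>
        commutatorElement_eq_one_iff_mul_comm.2
          (Subgroup.mem_centralizer_iff.1 (hAD ha).2 y hy).symm
  have h1 : lev A C (m + 1) ≤ A := Subgroup.commutator_le.2 fun a ha x hx => hmemA x hx a ha
  have h2 : lev A C (m + 2) ≤ V := Subgroup.commutator_le.2 fun a ha x hx => by
    rw [comm_eq_one (h.acomm ha (h1 hx))]; exact one_mem _
  exact Nat.find_min hex (show m + 2 < n by omega) h2

end Cfg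

end Cfsg.Agent.JKiller
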