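import Cfsg.Agent.Lib.JKiller.Basic
import Cfsg.Agent.Lib.Functors.ChiefP

/-!
`p`-th powers aside: the linear shadow `⁅b, ⁅a, v⁆⁆ ≡ ⁅e, v⁆` with `e ∈ A ∩ T`, and the degrees
`3`, `4` when the centralizer in `A` of all `⁅A, V⁆` lies in `T`.
-/

set_option autoImplicit false
set_option linter.style.haveILetI false
set_option linter.unusedSectionVars false

namespace Cfsg.Agent.JKiller

open Cfsg
open Cfsg.Agent.ZJ (IsMaxIn)
open scoped commutatorElement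

universe u

variable {G : Type u} [Group G] [Finite G] {p : ℕ} [Fact p.Prime] {S T C V A : Subgroup G}

namespace Cfg

variable (h : Cfg p S T C V A)
include h

theorem comm_mul_V {a x y : G} (hx : x ∈ V) (hy : y ∈ V) : ⁅a, x * y⁆ = ⁅a, x⁆ * ⁅a, y⁆ :=
  comm_mul_of_commute (h.vcomm _ hx _ (h.comm_mem_V hy))

theorem comm_inv_V {a x : G} (hx : x ∈ V) : ⁅a, x⁻¹⁆ = ⁅a, x⁆⁻¹ := by
  refine eq_inv_of_mul_eq_one_right ?_
  rw [← h.comm_mul_V hx (inv_mem hx), mul_inv_cancel, commutatorElement_one_right]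

theorem le_S_V : V ≤ S := h.hVC.trans (h.hCT.trans h.hTS)

theorem cm_closed {v y q : G} (hv : v ∈ V) (hq : q ∈ A) (hy : y ∈ cm A v) : ⁅q, y⁆ ∈ cm A v := by
  have hMV : cm A v ≤ V := cm_le fun a _ => h.comm_mem_V hv
  induction hy using Subgroup.closure_induction with
  | mem y hy =>
    obtain ⟨a, ha, rfl⟩ := hy
    rw [show ⁅q, ⁅a, v⁆⁆ = ⁅q * a, v⁆ * ⁅q, v⁆⁻¹ * ⁅a, v⁆⁻¹ by
      simp only [commutatorElement_def]; group]
    exact mul_mem (mul_mem (mem_cm (mul_mem hq ha)) (inv_mem (mem_cm hq))) (inv_mem (mem_cm ha))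
  | one => rw [commutatorElement_one_right]; exact one_mem _
  | mul x y hx hy ihx ihy => rw [h.comm_mul_V (hMV hx) (hMV hy)]; exact mul_mem ihx ihy
  | inv x hx ih => rw [h.comm_inv_V (hMV hx)]; exact inv_mem ih

theorem shadow (hS : IsPGroup p ↥S) {v : G} (hv : v ∈ V) {a b : G} (ha : a ∈ A) (hb : b ∈ A) :
    ∃ e ∈ A, e ∈ T ∧ ⁅b, ⁅a, v⁆⁆ * ⁅e, v⁆⁻¹ ∈ A := by
  suffices key : ∀ (n : ℕ) (v : G), v ∈ V → Nat.card ↥(cm A v) = n → ∀ a ∈ A, ∀ b ∈ A,
      ∃ e ∈ A, e ∈ T ∧ ⁅b, ⁅a, v⁆⁆ * ⁅e, v⁆⁻¹ ∈ A from key _ v hv rfl a ha b hb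
  intro n
  induction n using Nat.strong_induction_on with
  | _ n ih =>
    intro v hv hn a ha b hb
    set M := cm A v with hM
    have hMV : M ≤ V := cm_le fun q _ => h.comm_mem_V hv
    have hMS : M ≤ S := hMV.trans h.le_S_V
    have hzM : ⁅b, ⁅a, v⁆⁆ ∈ M := h.cm_closed hv hb (mem_cm ha)
    obtain ⟨-, -, hsurj⟩ := h.replacement v hMS (comm_of_le h.vcomm hMV)
    obtain ⟨c, hc, hcz⟩ := hsurj _ hzM
    by_cases hcT : c ∈ T
    · refine ⟨c, hc, hcT, ?_⟩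
      rwa [h.vcomm _ (h.comm_mem_V (h.comm_mem_V hv)) _ (inv_mem (h.comm_mem_V hv))]
    suffices hall : ∀ y ∈ M, cm A y ≤ A by
      refine ⟨1, one_mem _, one_mem _, ?_⟩
      rw [commutatorElement_one_left, inv_one, mul_one]
      exact hall _ (mem_cm ha) (mem_cm hb)
    -- `⁅b, ⁅a, ·⁆⁆` and `⁅c, ·⁆` agree on `M`
    have hlin : ∀ y ∈ M, ⁅c, y⁆ = ⁅b, ⁅a, y⁆⁆ := by
      intro y hy
      induction hy using Subgroup.closure_induction with
      | mem y hy =>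
        obtain ⟨q, hq, rfl⟩ := hy
        rw [h.swap_V hc hq hv, h.swap_V ha hq hv, h.swap_V hb hq (h.comm_mem_V hv)]
        set s := ⁅c, v⁆⁻¹ * ⁅b, ⁅a, v⁆⁆ with hs
        rw [show ⁅b, ⁅a, v⁆⁆ = ⁅c, v⁆ * s by rw [hs, mul_inv_cancel_left],
          h.comm_mul_V (h.comm_mem_V hv)
            (mul_mem (inv_mem (h.comm_mem_V hv)) (h.comm_mem_V (h.comm_mem_V hv))),
          comm_eq_one (h.acomm hq hcz), mul_one]
      | one => simp
      | mul x y hx hy ihx ihy =>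
        rw [h.comm_mul_V (hMV hx) (hMV hy), h.comm_mul_V (hMV hx) (hMV hy),
          h.comm_mul_V (h.comm_mem_V (hMV hx)) (h.comm_mem_V (hMV hy)), ihx, ihy]
      | inv x hx ihx =>
        rw [h.comm_inv_V (hMV hx), h.comm_inv_V (hMV hx), h.comm_inv_V (h.comm_mem_V (hMV hx)), ihx]
    intro y hy
    have hle : cm A y ≤ ⁅A, M⁆ := cm_le fun q hq => Subgroup.commutator_mem_commutator hq hy
    have hAM : ⁅A, M⁆ ≤ M := Subgroup.commutator_le.2 fun q hq x hx => h.cm_closed hv hq hx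
    by_cases heq : M ≤ ⁅A, M⁆
    · have : M ≤ ⊥ := Fusion.le_of_le_commutator_sup hS.isNilpotent hMS bot_le
        (le_top.trans (Subgroup.normalizer_eq_top (H := (⊥ : Subgroup G))).ge)
        (heq.trans ((Subgroup.commutator_comm A M).le.trans
          ((Subgroup.commutator_mono le_rfl h.hA.1).trans le_sup_left)))
      exact (hle.trans (hAM.trans this)).trans bot_le
    have hlt : cm A y < M := lt_of_le_of_ne (hle.trans hAM) fun e => heq (e ▸ hle)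
    have hcard : Nat.card ↥(cm A y) < n := hn ▸ lt_of_le_of_ne (Subgroup.card_le_of_le hlt.le)
      fun e => hlt.ne (Subgroup.eq_of_le_of_card_ge hlt.le e.ge)
    obtain ⟨e, he, heT, hee⟩ := ih _ hcard y (hMV hy) rfl a ha b hb
    rw [← hlin y hy, h.vcomm _ (h.comm_mem_V (hMV hy)) _ (inv_mem (h.comm_mem_V (hMV hy)))] at hee
    have hf := h.fibre hc he (comm_of_le h.vcomm (cm_le fun q _ => h.comm_mem_V (hMV hy))) hee
    refine h.dich_V (hMV hy) fun hT => hcT ?_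
    simpa using mul_mem heT (hT hf)

/-- Degree three on the chief factors inside `V`. -/
theorem cubic (hS : IsPGroup p ↥S) {U L : Subgroup G} (hUL : IsChiefFactor U L) (hUV : U ≤ V)
    {u a b c : G} (hu : u ∈ U) (ha : a ∈ A) (hb : b ∈ A) (hc : c ∈ A) :
    ⁅c, ⁅b, ⁅a, u⁆⁆⁆ ∈ L := by
  haveI := h.hTn
  haveI := hUL.2.1
  obtain ⟨e, he, heT, hz⟩ := h.shadow hS (hUV hu) ha hb
  set s := ⁅b, ⁅a, u⁆⁆ * ⁅e, u⁆⁻¹ with hs
  have hsV : s ∈ V :=
    mul_mem (h.comm_mem_V (h.comm_mem_V (hUV hu))) (inv_mem (h.comm_mem_V (hUV hu)))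
  rw [show ⁅b, ⁅a, u⁆⁆ = s * ⁅e, u⁆ by rw [hs, inv_mul_cancel_right],
    h.comm_mul_V hsV (h.comm_mem_V (hUV hu)), comm_eq_one (h.acomm hc hz), one_mul,
    h.swap_V hc he (hUV hu), ← commutatorElement_inv]
  refine inv_mem (ChiefAct.mul_comm_mod_of_chief (hS.to_le h.hTS) hUL
    (hUV.trans (h.hVC.trans h.hCT)) ?_ heT)
  rw [commutatorElement_def]
  exact mul_mem (hUL.2.1.conj_mem u hu c) (inv_mem hu)

/-- Degree four modulo `V` on `C`. -/
theorem quartic (hS : IsPGroup p ↥S) {M : Subgroup G} (hM : Best V A M)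
    (hMv : ∀ v ∈ V, cm A v ≤ M) (hE : A ⊓ Subgroup.centralizer (M : Set G) ≤ T)
    {u a b c d : G} (hu : u ∈ C) (ha : a ∈ A) (hb : b ∈ A) (hc : c ∈ A) (hd : d ∈ A) :
    ⁅d, ⁅c, ⁅b, ⁅a, u⁆⁆⁆⁆ ∈ V := by
  set E := A ⊓ Subgroup.centralizer (M : Set G) with hEdef
  set y := ⁅c, ⁅b, ⁅a, u⁆⁆⁆ with hy
  have hyC : y ∈ C := h.comm_mem_C (h.comm_mem_C (h.comm_mem_C hu))
  have hycom : ∀ e ∈ E, ⁅e, y⁆ = 1 := by
    intro e heE
    have he := (Subgroup.mem_inf.1 heE).1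
    have heT := hE heE
    rw [hy, h.swap_C hc he heT (h.comm_mem_C (h.comm_mem_C hu)),
      h.swap_C hb he heT (h.comm_mem_C hu), h.swap_C ha he heT hu]
    have hv0 : ⁅e, u⁆ ∈ V := h.hTC e heT u hu
    obtain ⟨a1, ha1, ha1T, hz⟩ := h.shadow hS hv0 ha hb
    have hv1 : ⁅a1, u⁆ ∈ V := h.hTC a1 ha1T u hu
    have hq : ⁅a1, ⁅e, u⁆⁆ ∈ A := by
      rw [← h.swap_C ha1 he heT hu]
      refine h.mem_A_of_centralizes (h.le_S_V (h.comm_mem_V hv1)) fun q hq => ?_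
      rw [h.swap_V hq he hv1]
      exact comm_eq_one (Subgroup.mem_centralizer_iff.1 (Subgroup.mem_inf.1 heE).2 _
        (hMv _ hv1 (mem_cm hq))).symm
    refine comm_eq_one (h.acomm hc ?_)
    have h2 := mul_mem hz hq
    rwa [inv_mul_cancel_right] at h2
  have hEc : E ≤ Subgroup.centralizer (M : Set G) := inf_le_right
  have hU : IsMaxIn p False S (M ⊔ E) := by
    refine h.isMax_sup (hM.2.1.trans h.le_S_V) (inf_le_left.trans h.hA.1)
      (comm_of_le h.vcomm hM.2.1) (fun x hx y hy => h.acomm hx.1 hy.1) hEc ?_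
    rw [hEdef, h.best_inf hM]
    exact hM.2.2
  have hyU : y ∈ M ⊔ E := by
    refine ZJ.mem_of_centralizes hU (h.hTS (h.hCT hyC)) (fun x hx => ?_) False.elim
    have hle : M ⊔ E ≤ Subgroup.centralizer ({y} : Set G) := sup_le
      (fun m hm => Subgroup.mem_centralizer_iff.2 fun z hz => by
        rw [Set.mem_singleton_iff.1 hz]; exact (h.hcen m (hM.2.1 hm) y hyC).symm)
      (fun e he => Subgroup.mem_centralizer_iff.2 fun z hz => by
        rw [Set.mem_singleton_iff.1 hz]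
        exact (commutatorElement_eq_one_iff_mul_comm.1 (hycom e he)).symm)
    exact (Subgroup.mem_centralizer_iff.1 (hle hx) y rfl).symm
  rw [← SetLike.mem_coe, Subgroup.coe_mul_of_right_le_normalizer_left _ _
    (hEc.trans (Subgroup.centralizer_le_normalizer _))] at hyU
  obtain ⟨m, hm, e, he, hme⟩ := Set.mem_mul.1 hyU
  rw [← hme, comm_right_mul, comm_eq_one (h.acomm hd (Subgroup.mem_inf.1 he).1)]
  simpa using h.comm_mem_V (hM.2.1 hm)

end Cfg

end Cfsg.Agent.JKiller
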