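import Cfsg.Agent.Lib.JKiller.CaseA
import Cfsg.Agent.Lib.Functors.JQuad
import Cfsg.Agent.Lib.Functors.TransferApps
import Cfsg.Agent.Lib.Functors.Critical
import Cfsg.Agent.Lib.Functors.Pairing
import Cfsg.Agent.Lib.PLocal.JAutMain

/-!
A non-normal `J(S)` yields an element of degree at most six on all chief factors inside `O_p`; so
`J(S)` controls transfer for `p ≥ 7`.
-/

set_option autoImplicit false
set_option linter.style.haveILetI false
set_option linter.unusedSectionVars false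

namespace Cfsg.Agent.JKiller

open Cfsg
open Cfsg.Agent.ZJ (IsMaxIn jSub)
open scoped commutatorElement

universe u

variable {p : ℕ} [Fact p.Prime]

theorem dg_iterate_eq {G : Type u} [Group G] (g u : G) (n : ℕ) :
    (ChiefAct.dg g)^[n] u = g ^ n * (fun x => ⁅g⁻¹, x⁆)^[n] u * (g ^ n)⁻¹ := by
  induction n with
  | zero => simp
  | succ n ih =>
    rw [Function.iterate_succ_apply', Function.iterate_succ_apply', ih]
    simp only [ChiefAct.dg, commutatorElement_def, pow_succ']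
    group

theorem dg_iterate_mem_iff {G : Type u} [Group G] {L : Subgroup G} [hL : L.Normal] (g u : G) (n : ℕ) :
    (ChiefAct.dg g)^[n] u ∈ L ↔ (fun x => ⁅g⁻¹, x⁆)^[n] u ∈ L := by
  rw [dg_iterate_eq]
  refine ⟨fun h => ?_, fun h => hL.conj_mem _ h _⟩
  have := hL.conj_mem _ h (g ^ n)⁻¹
  simpa [mul_assoc] using this

theorem exists_killer {G : Type u} [Group G] [Finite G] (S : Sylow p G)
    (hJ : ¬ (jSub p False (S : Subgroup G)).Normal) :
    ∃ g ∈ (S : Subgroup G), g ∉ pCore p G ∧ ∀ U L : Subgroup G, IsChiefFactor U L → U ≤ pCore p G →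
      iterCommutator U (Subgroup.zpowers g) 6 ≤ L := by
  classical
  set T := pCore p G with hT
  haveI : T.Normal := Cfsg.pCore_normal p G
  have hTp : IsPGroup p ↥T := PBasic.pCore_isPGroup p G
  obtain ⟨H, hH⟩ := Critical.exists_critical hTp
  haveI := hH.char
  set C := H.map T.subtype with hC
  haveI : C.Normal := inferInstance
  have hCT : C ≤ T := Subgroup.map_subtype_le H
  set V := C ⊓ Subgroup.centralizer (C : Set G) with hV
  haveI : V.Normal := inferInstance
  have htop : (⊤ : Subgroup ↥T).map T.subtype = T := by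
    rw [← MonoidHom.range_eq_map, Subgroup.range_subtype]
  have h3 : ⁅T, C⁆ ≤ V := by
    have h : (⁅(⊤ : Subgroup ↥T), H⁆).map T.subtype ≤
        (H ⊓ Subgroup.centralizer (H : Set ↥T)).map T.subtype := Subgroup.map_mono hH.comm
    rw [Subgroup.map_commutator, htop] at h
    refine h.trans ((Subgroup.map_inf_le _ _ _).trans (le_inf inf_le_left ?_))
    rintro x ⟨-, y, hy, rfl⟩
    refine Subgroup.mem_centralizer_iff.2 ?_
    rintro _ ⟨z, hz, rfl⟩
    rw [← map_mul, ← map_mul, Subgroup.mem_centralizer_iff.1 hy z hz]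
  have h4 : T ⊓ Subgroup.centralizer (C : Set G) ≤ C := by
    intro x hx
    obtain ⟨hxT, hxC⟩ := Subgroup.mem_inf.1 hx
    refine ⟨⟨x, hxT⟩, hH.cent (Subgroup.mem_centralizer_iff.2 fun a ha => Subtype.ext ?_), rfl⟩
    exact Subgroup.mem_centralizer_iff.1 hxC a ⟨a, ha, rfl⟩
  obtain ⟨A₀, hA₀, hA₀T, -⟩ := JQuad.exists_abelian S hJ
  obtain ⟨A, ⟨hA, hAT⟩, hmax⟩ := Set.exists_max_image
    {A | IsMaxIn p False (S : Subgroup G) A ∧ ¬ A ≤ T}
    (fun A => Nat.card ↥(A ⊓ T) * (Nat.card G + 1) + Nat.card ↥(A ⊓ V))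
    (Set.toFinite _) ⟨A₀, hA₀, hA₀T⟩
  have hcfg : Cfg p (S : Subgroup G) T C V A := by
    refine ⟨inferInstance, inferInstance, inferInstance, PBasic.pCore_le_sylow S, hCT, inf_le_left,
      fun t ht c hc => h3 (Subgroup.commutator_mem_commutator ht hc),
      fun v hv c hc => (Subgroup.mem_centralizer_iff.1 (Subgroup.mem_inf.1 hv).2 c hc).symm,
      hA, hAT, fun B hB hBT => ?_, fun B hB hBT hle => ?_⟩
    · have h1 := hmax B ⟨hB, hBT⟩
      have h2 := Subgroup.card_le_card_group (A ⊓ V)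
      by_contra hlt
      rw [not_le] at hlt
      have h5 : (Nat.card ↥(A ⊓ T) + 1) * (Nat.card G + 1) ≤ Nat.card ↥(B ⊓ T) * (Nat.card G + 1) :=
        Nat.mul_le_mul_right _ hlt
      rw [add_mul, one_mul] at h5
      omega
    · have h1 := hmax B ⟨hB, hBT⟩
      have h5 := Nat.mul_le_mul_right (Nat.card G + 1) hle
      omega
  have hSp := S.isPGroup'
  obtain ⟨g, hgA, hgT⟩ := SetLike.not_le_iff_exists.1 hAT
  have hga : g⁻¹ ∈ A := inv_mem hgA
  refine ⟨g, hA.1 hgA, hgT, ?_⟩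
  -- reduction to commutators inside `C`
  have key : ∀ i j : ℕ, 1 ≤ i → 1 ≤ j → i + j - 1 ≤ 6 → j ≤ i →
      (∀ u ∈ C, (fun x => ⁅g⁻¹, x⁆)^[i] u ∈ V) →
      (∀ U L : Subgroup G, IsChiefFactor U L → U ≤ V → ∀ u ∈ U, (fun x => ⁅g⁻¹, x⁆)^[j] u ∈ L) →
      ∀ U L : Subgroup G, IsChiefFactor U L → U ≤ T → iterCommutator U (Subgroup.zpowers g) 6 ≤ L := by
    intro i j hi hj hij hji hCi hVj
    have hZ : ∀ U L : Subgroup G, IsChiefFactor U L → U ≤ V →
        iterCommutator U (Subgroup.zpowers g) j ≤ L := by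
      intro U L hUL hUV
      haveI := hUL.2.1
      haveI := hUL.2.2.1
      rw [ChiefAct.iterCommutator_le_iff hUL.1.le (ChiefAct.commutator_self_le_of_chief hTp hUL
        (hUV.trans (inf_le_left.trans hCT))) le_rfl]
      exact fun u hu => (dg_iterate_mem_iff g u j).2 (hVj U L hUL hUV u hu)
    intro U L hUL hUT
    haveI := hUL.2.2.1
    obtain ⟨k, hk⟩ := Nat.exists_eq_add_of_le hij
    rw [hk]
    refine Functors.iterCommutator_le_of_le _ ?_ k
    refine ChiefAct.iterCommutator_le_of_pairing (Q := C) hTp hCT h3 h4 g i j hi hj ?_ hZ U L hUL hUT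
    intro X Y hXY hXC
    haveI := hXY.2.1
    haveI := hXY.2.2.1
    have hab := ChiefAct.commutator_self_le_of_chief hTp hXY (hXC.trans hCT)
    rw [ChiefAct.iterCommutator_le_iff hXY.1.le hab le_rfl]
    have hiV : ∀ u ∈ X, (ChiefAct.dg g)^[i] u ∈ X ⊓ V := fun u hu =>
      ⟨ChiefAct.dg_iterate_mem hu i, (dg_iterate_mem_iff g u i).2 (hCi u (hXC hu))⟩
    by_cases hXV : X ⊓ V ≤ Y
    · exact fun u hu => hXV (hiV u hu)
    rcases hXY.2.2.2 ((X ⊓ V) ⊔ Y) inferInstance le_sup_right (sup_le inf_le_left hXY.1.le) with e | e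
    · exact absurd (le_sup_left.trans e.le) hXV
    obtain ⟨D, hYD, -, hD⟩ := ChiefAct.exists_dker X Y hXY.1.le hab g i
    have hfac : IsChiefFactor (X ⊓ V) (X ⊓ V ⊓ Y) := by
      refine ⟨lt_of_le_of_ne inf_le_left fun e' => hXV (inf_eq_left.1 e'), inferInstance, inferInstance,
        fun R hR hle hRN => ?_⟩
      haveI := hR
      rcases hXY.2.2.2 (R ⊔ Y) inferInstance le_sup_right (sup_le (hRN.trans inf_le_left) hXY.1.le)
        with h | h
      · exact Or.inl (le_antisymm (le_inf hRN (le_sup_left.trans h.le)) hle)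
      · refine Or.inr (le_antisymm hRN fun z hz => ?_)
        obtain ⟨r, hr, y, hy, rfl⟩ :=
          Subgroup.mem_sup_of_normal_right.1 (h.ge ((Subgroup.mem_inf.1 hz).1))
        have hy' : y ∈ X ⊓ V := by simpa using mul_mem (inv_mem (hRN hr)) hz
        exact mul_mem hr (hle (Subgroup.mem_inf.2 ⟨hy', hy⟩))
    have hle : (X ⊓ V) ⊔ Y ≤ D := sup_le (fun x hx => (hD x hx.1).2 (by
      have h1 := (dg_iterate_mem_iff g x j).2 (hVj _ _ hfac inf_le_right x hx)
      obtain ⟨m, rfl⟩ := Nat.exists_eq_add_of_le' hji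
      rw [Function.iterate_add_apply]
      exact (Subgroup.mem_inf.1 (ChiefAct.dg_iterate_mem h1 m)).2)) hYD
    exact fun u hu => (hD u hu).1 (hle (e.ge hu))
  obtain ⟨M, hM, hMv⟩ := hcfg.exists_best
  by_cases hE : A ⊓ Subgroup.centralizer (M : Set G) ≤ T
  · refine key 4 3 (by norm_num) (by norm_num) le_rfl (by norm_num) ?_ ?_
    · intro u hu
      exact hcfg.quartic hSp hM hMv hE hu hga hga hga hga
    · intro U L hUL hUV u hu
      exact hcfg.cubic hSp hUL hUV hu hga hga hga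
  · have hMA : M ≤ A := hcfg.le_A_of_out hM.2.1 (by rw [hcfg.best_inf hM]; exact hM.2.2) hE
    have hVA : ∀ a ∈ A, ∀ v ∈ V, ⁅a, v⁆ ∈ A := fun a ha v hv => hMA (hMv v hv (mem_cm ha))
    refine key 5 2 (by norm_num) (by norm_num) le_rfl (by norm_num) ?_ ?_
    · intro u hu
      exact hcfg.lev_five_le hSp hVA (mem_lev_succ hga (mem_lev_succ hga (mem_lev_succ hga
        (mem_lev_succ hga (mem_lev_succ hga hu)))))
    · intro U L hUL hUV u hu
      show ⁅g⁻¹, ⁅g⁻¹, u⁆⁆ ∈ L
      rw [comm_eq_one (hcfg.acomm hga (hVA _ hga u (hUV hu)))]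
      exact one_mem _

theorem hasKiller_J (hp : 7 ≤ p) (Y : Type u) [Group Y] [Finite Y] :
    Functors.HasKiller p (fun Q [Group Q] => JAut.jFun p Q) Y := by
  intro T hT
  rw [JAut.inducedFunctor_jFun] at hT
  obtain ⟨g, hgT, hgO, hg⟩ := exists_killer T hT
  refine ⟨g, hgT, hgO, fun U V hUV hUT => ?_⟩
  haveI := hUV.2.2.1
  obtain ⟨k, hk⟩ := Nat.exists_eq_add_of_le (show 6 ≤ p - 1 by omega)
  rw [hk]
  exact Functors.iterCommutator_le_of_le _ (hg U V hUV hUT) k

theorem ctlTR_J (hp : 7 ≤ p) (G : Type u) [Group G] [Finite G] :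
    Functors.CtlTR p {(fun Q [Group Q] => JAut.jFun p Q)} G :=
  Functors.ctlTR_of_killer JAut.isCharPFunctor_jFun G fun Y _ _ _ _ => hasKiller_J hp Y

theorem inf_commutator_eq (hp : 7 ≤ p) {G : Type u} [Group G] [Finite G] (S : Sylow p G) :
    (S : Subgroup G) ⊓ commutator G = (S : Subgroup G) ⊓
      ⁅Subgroup.normalizer (jSub p False (S : Subgroup G) : Set G),
        Subgroup.normalizer (jSub p False (S : Subgroup G) : Set G)⁆ := by
  have h := Functors.inf_commutator_eq_of_ctl JAut.isCharPFunctor_jFun (ctlTR_J hp G) S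
  rwa [JAut.inducedFunctor_jFun] at h

end Cfsg.Agent.JKiller
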