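import Cfsg.Agent.Lib.Transfer.EngelTransfer

/-!
Equal focal subgroups give isomorphic largest `p`-factor groups.
-/

set_option autoImplicit false
set_option linter.style.haveILetI false
set_option linter.unusedSectionVars false

namespace Cfsg.Agent.JKiller

open Cfsg
open scoped commutatorElement

universe u

variable {G : Type u} [Group G] [Finite G] {p : ℕ} [hp : Fact p.Prime]

/-- Homomorphisms to the group of order `p` extend. -/
theorem exists_extension (S : Sylow p G) {H : Subgroup G} (hSH : (S : Subgroup G) ≤ H)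
    (heq : (S : Subgroup G) ⊓ commutator G ≤ ⁅H, H⁆) (ψ : ↥H →* Multiplicative (ZMod p)) :
    ∃ τ : G →* Multiplicative (ZMod p), ∀ x : ↥H, τ x = ψ x := by
  classical
  let ab : G →* Abelianization G := Abelianization.of
  let π : ↥(S : Subgroup G) →* Abelianization G := ab.comp (S : Subgroup G).subtype
  let ψS : ↥(S : Subgroup G) →* Multiplicative (ZMod p) := ψ.comp (Subgroup.inclusion hSH)
  have hker : π.ker ≤ ψS.ker := by
    intro s hs
    have h1 : (s : G) ∈ ⁅H, H⁆ := heq ⟨s.2, (QuotientGroup.eq_one_iff (s : G)).1 hs⟩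
    rw [← Subgroup.map_subtype_commutator] at h1
    obtain ⟨y, hy, hye⟩ := h1
    rw [MonoidHom.mem_ker]
    show ψ (Subgroup.inclusion hSH s) = 1
    rw [show Subgroup.inclusion hSH s = y from Subtype.ext hye.symm]
    exact Abelianization.commutator_subset_ker ψ hy
  let ψR : ↥π.range →* Multiplicative (ZMod p) :=
    MonoidHom.liftOfSurjective π.rangeRestrict π.rangeRestrict_surjective
      ⟨ψS, by rwa [MonoidHom.ker_rangeRestrict]⟩
  have hψR : ∀ s, ψR (π.rangeRestrict s) = ψS s := fun s =>
    MonoidHom.liftOfRightInverse_comp_apply π.rangeRestrict _ _ ⟨ψS, _⟩ s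
  set m := π.range.index with hm
  have hmp : ¬ p ∣ m := by
    intro hdvd
    refine S.not_dvd_index (hdvd.trans ?_)
    rw [hm, show π.range = (S : Subgroup G).map ab by
      rw [MonoidHom.range_comp, Subgroup.range_subtype]]
    exact Subgroup.index_map_dvd _ QuotientGroup.mk_surjective
  let pw : Abelianization G →* ↥π.range :=
    { toFun := fun x => ⟨x ^ m, Subgroup.pow_index_mem _ _⟩
      map_one' := Subtype.ext (one_pow m)
      map_mul' := fun x y => Subtype.ext (mul_pow x y m) }
  have hcard : Nat.card (Multiplicative (ZMod p)) = p :=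
    (Nat.card_congr Multiplicative.toAdd).trans (Nat.card_zmod p)
  have hcop : (Nat.card (Multiplicative (ZMod p))).Coprime m := by
    rw [hcard]; exact hp.out.coprime_iff_not_dvd.2 hmp
  let e : Multiplicative (ZMod p) →* Multiplicative (ZMod p) :=
    { toFun := (powCoprime hcop).symm
      map_one' := (powCoprime hcop).injective (by simp)
      map_mul' := fun x y => (powCoprime hcop).injective (by
        simp only [Equiv.apply_symm_apply]
        rw [powCoprime_apply, mul_pow, ← powCoprime_apply hcop, ← powCoprime_apply hcop,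
          Equiv.apply_symm_apply, Equiv.apply_symm_apply]) }
  let τ : G →* Multiplicative (ZMod p) := (e.comp (ψR.comp pw)).comp ab
  have hτS : ∀ s : ↥(S : Subgroup G), τ s = ψS s := by
    intro s
    show (powCoprime hcop).symm (ψR (pw (π s))) = ψS s
    rw [show pw (π s) = π.rangeRestrict s ^ m from Subtype.ext (by rw [SubmonoidClass.coe_pow]; rfl),
      map_pow, hψR, ← powCoprime_apply hcop, Equiv.symm_apply_apply]
  refine ⟨τ, fun x => ?_⟩
  let S' : Sylow p ↥H := S.subtype hSH
  have hS' : (S' : Subgroup ↥H) = (S : Subgroup G).subgroupOf H := S.coe_subtype hSH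
  have hK : ∀ k ∈ pResidual p ↥H, τ k = ψ k := by
    intro k hk
    refine MonoidHom.eqOn_closure (f := τ.comp H.subtype) (g := ψ) ?_ hk
    intro y hy
    have h1 : ∀ φ : ↥H →* Multiplicative (ZMod p), φ y = 1 := fun φ => by
      have h2 : orderOf (φ y) ∣ p := by
        have := orderOf_dvd_natCard (φ y)
        rwa [hcard] at this
      rw [← orderOf_eq_one_iff]
      exact Nat.eq_one_of_dvd_coprimes hy (orderOf_map_dvd φ y) h2
    rw [h1, h1]
  have hx : x ∈ (S' : Subgroup ↥H) ⊔ pResidual p ↥H := by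
    rw [PBasic.sylow_sup_pResidual]; trivial
  haveI := PBasic.pResidual_normal_inst p ↥H
  rw [← SetLike.mem_coe, Subgroup.mul_normal] at hx
  obtain ⟨a, ha, k, hk, rfl⟩ := Set.mem_mul.1 hx
  rw [SetLike.mem_coe, hS', Subgroup.mem_subgroupOf] at ha
  rw [Subgroup.coe_mul, map_mul, map_mul, hK k hk, hτS ⟨a, ha⟩]
  rfl

/-- Equal focal subgroups give isomorphic largest `p`-factor groups. -/
theorem nonempty_quotient_equiv (S : Sylow p G) {H : Subgroup G} (hSH : (S : Subgroup G) ≤ H)
    (heq : (S : Subgroup G) ⊓ commutator G ≤ ⁅H, H⁆) [(pResidual p G).Normal]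
    [(pResidual p ↥H).Normal] :
    Nonempty (G ⧸ pResidual p G ≃* ↥H ⧸ pResidual p ↥H) := by
  set K := pResidual p G with hK
  let f : ↥H →* G ⧸ K := (QuotientGroup.mk' K).comp H.subtype
  have hf : Function.Surjective f := by
    intro t
    obtain ⟨g, rfl⟩ := QuotientGroup.mk_surjective t
    have hg : g ∈ (S : Subgroup G) ⊔ K := by rw [PBasic.sylow_sup_pResidual]; trivial
    rw [← SetLike.mem_coe, Subgroup.mul_normal] at hg
    obtain ⟨a, ha, w, hw, rfl⟩ := Set.mem_mul.1 hg
    refine ⟨⟨a, hSH ha⟩, ?_⟩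
    show QuotientGroup.mk a = _
    rw [QuotientGroup.mk_mul, (QuotientGroup.eq_one_iff w).2 hw, mul_one]
  have hker : f.ker = pResidual p ↥H := by
    refine le_antisymm (fun x hx => ?_) fun x hx => (QuotientGroup.eq_one_iff _).2
      (PBasic.map_pResidual_le H.subtype ⟨x, hx, rfl⟩)
    have hxK : (x : G) ∈ K := (QuotientGroup.eq_one_iff _).1 hx
    have hx' : x ∈ (S.subtype hSH : Subgroup ↥H) ⊔ pResidual p ↥H := by
      rw [PBasic.sylow_sup_pResidual]; trivial
    rw [← SetLike.mem_coe, Subgroup.mul_normal] at hx'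
    obtain ⟨a, ha, k, hk, rfl⟩ := Set.mem_mul.1 hx'
    rw [SetLike.mem_coe, S.coe_subtype hSH, Subgroup.mem_subgroupOf] at ha
    have haK : (a : G) ∈ K := by
      have h1 : (k : G) ∈ K := PBasic.map_pResidual_le H.subtype ⟨k, hk, rfl⟩
      have h2 := mul_mem hxK (inv_mem h1)
      rwa [Subgroup.coe_mul, mul_inv_cancel_right] at h2
    have hT := EngelTransfer.tate S hSH (exists_extension S hSH heq)
    obtain ⟨y, hy, hye⟩ := Subgroup.mem_subgroupOf.1
      (hT (show (⟨(a : G), ha⟩ : ↥(S : Subgroup G)) ∈ K.subgroupOf (S : Subgroup G) from haK))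
    rw [show a = y from Subtype.ext hye.symm]
    exact mul_mem hy hk
  exact ⟨((QuotientGroup.quotientMulEquivOfEq hker).symm.trans
    (QuotientGroup.quotientKerEquivOfSurjective f hf)).symm⟩

end Cfsg.Agent.JKiller
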